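import Mathlib
import Groth.Prelude.Def_Hensel
import Groth.Agent.Lib.Helper7.Hens.AtPrimeMain
import Groth.Agent.Lib.Helper7.HensTensor

/-! helper7: a finite local algebra over the henselization of a local ring essentially of finite
type is again such a henselization (descent of a finite presentation to an etale neighbourhood). -/

set_option linter.style.haveILetI false
set_option linter.unusedVariables false
set_option linter.unusedSectionVars false
set_option linter.overlappingInstances false
set_option autoImplicit false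
set_option backward.isDefEq.respectTransparency.types false
set_option backward.isDefEq.respectTransparency false
set_option synthInstance.maxHeartbeats 400000
set_option maxHeartbeats 1600000

open IsLocalRing TensorProduct

namespace Groth.Agent.Helper7.HensFinTransfer

open Groth.Agent.Helper7.HensTensor

universe u

/-- A ring map out of a henselization is local as soon as its restriction to the base is. -/
theorem isLocalHom_of_comp {R S T : Type u} [CommRing R] [IsLocalRing R] [CommRing S]
    [IsLocalRing S] [Algebra R S] [IsLocalHom (algebraMap R S)] [Hensel.IsHenselization R S]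
    [CommRing T] [IsLocalRing T] (h : S →+* T) (hloc : IsLocalHom (h.comp (algebraMap R S))) :
    IsLocalHom h := by
  apply ((IsLocalRing.local_hom_TFAE h).out 0 2 rfl rfl).mpr
  rw [← Hens.map_maximalIdeal_of_isHenselization R S, Ideal.map_map]
  exact ((IsLocalRing.local_hom_TFAE (h.comp (algebraMap R S))).out 0 2 rfl rfl).mp hloc

/-- **Forward core**: a finite local algebra `Y` over the henselization `A'` of `B_p` is the
henselization of a localization of a finite type `B`-algebra `D`. -/
theorem forward_core {B : Type u} [CommRing B] (p : Ideal B) [p.IsPrime]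
    (A' : Type u) [CommRing A'] [IsLocalRing A'] [IsNoetherianRing A']
    [Algebra (Localization.AtPrime p) A'] [IsLocalHom (algebraMap (Localization.AtPrime p) A')]
    [Hensel.IsHenselization (Localization.AtPrime p) A'] [Algebra B A']
    [IsScalarTower B (Localization.AtPrime p) A']
    (Y : Type u) [CommRing Y] [IsLocalRing Y] [Algebra A' Y] [Module.Finite A' Y]
    [IsLocalHom (algebraMap A' Y)] :
    ∃ (D : Type u) (_ : CommRing D) (_ : Algebra B D) (_ : Algebra.FiniteType B D) (ρ : D →+* Y),
      (∀ b : B, ρ (algebraMap B D b) = algebraMap A' Y (algebraMap B A' b)) ∧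
      ∀ (T : Type u) [CommRing T] [HenselianLocalRing T]
        (g : Localization.AtPrime ((maximalIdeal Y).comap ρ) →+* T), IsLocalHom g →
        ∃! h : Y →+* T, h.comp (liftLocal ρ ((maximalIdeal Y).comap ρ) rfl) = g := by
  classical
  haveI : HenselianLocalRing A' :=
    Hensel.IsHenselization.henselian (R := Localization.AtPrime p) (S := A')
  haveI : Algebra.FinitePresentation A' Y :=
    Algebra.FinitePresentation.of_finiteType.mp inferInstance
  obtain ⟨n, π, hπ, G, hG⟩ := Algebra.FinitePresentation.out (R := A') (A := Y)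
  have hG' : Ideal.span (G : Set (MvPolynomial (Fin n) A')) = RingHom.ker π.toRingHom := hG
  -- a common etale algebra containing all coefficients
  obtain ⟨Cs, hCs⟩ : ∃ Cs : Finset A', ∀ g ∈ G, ∀ c ∈ g.coeffs, c ∈ Cs :=
    ⟨G.biUnion (fun g => g.coeffs), fun g hg c hc => Finset.mem_biUnion.mpr ⟨g, hg, hc⟩⟩
  obtain ⟨S, _, _, _, f, hf⟩ := HensAtPrime.InIm.exists_common
    (fun i : Fin Cs.card => ((Cs.equivFin.symm i : Cs) : A'))
    (fun i => HensAtPrime.inIm_all p A' _)
  have hCsf : ∀ c ∈ Cs, c ∈ Set.range (f : S →+* A') := by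
    intro c hc
    obtain ⟨s, hs⟩ := hf (Cs.equivFin ⟨c, hc⟩)
    refine ⟨s, ?_⟩
    show f s = c
    rw [hs, Equiv.symm_apply_apply]
  obtain ⟨mf, hmf⟩ : ∃ mf : MvPolynomial (Fin n) S →+* MvPolynomial (Fin n) A',
      mf = MvPolynomial.map (f : S →+* A') := ⟨_, rfl⟩
  have hmfC : ∀ s : S, mf (MvPolynomial.C s) = MvPolynomial.C (f s) := by
    intro s
    rw [hmf, MvPolynomial.map_C]
    rfl
  have hmfX : ∀ i, mf (MvPolynomial.X i) = MvPolynomial.X i := by
    intro i
    rw [hmf, MvPolynomial.map_X]
  have hGlift : ∀ g ∈ G, ∃ g' : MvPolynomial (Fin n) S, mf g' = g := by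
    intro g hg
    have h1 : g ∈ Set.range (MvPolynomial.map (f : S →+* A')) := by
      rw [MvPolynomial.mem_range_map_iff_coeffs_subset]
      intro c hc
      exact hCsf c (hCs g hg c (Finset.mem_coe.mp hc))
    obtain ⟨g', hg'⟩ := h1
    exact ⟨g', by rw [hmf]; exact hg'⟩
  obtain ⟨ρ₀, hρ₀⟩ : ∃ ρ₀ : MvPolynomial (Fin n) S →+* Y, ρ₀ = π.toRingHom.comp mf := ⟨_, rfl⟩
  have hρ₀a : ∀ Q, ρ₀ Q = π (mf Q) := fun Q => by rw [hρ₀]; rfl
  have hπC : ∀ a : A', π (MvPolynomial.C a) = algebraMap A' Y a := by
    intro a
    have := π.commutes a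
    rwa [MvPolynomial.algebraMap_eq] at this
  have hK : RingHom.ker π.toRingHom ≤ Ideal.map mf (RingHom.ker ρ₀) := by
    rw [← hG', Ideal.span_le]
    intro g hg
    obtain ⟨g', hg'⟩ := hGlift g (Finset.mem_coe.mp hg)
    have hgker : g ∈ RingHom.ker π.toRingHom := by
      rw [← hG']
      exact Ideal.subset_span hg
    have hg'ker : g' ∈ RingHom.ker ρ₀ := by
      rw [RingHom.mem_ker, hρ₀a, hg']
      exact (RingHom.mem_ker).mp hgker
    have := Ideal.mem_map_of_mem mf hg'ker
    rw [hg'] at this
    exact this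
  have hft : Algebra.FiniteType B (MvPolynomial (Fin n) S ⧸ RingHom.ker ρ₀) := by
    haveI : Algebra.FiniteType B (MvPolynomial (Fin n) S) :=
      Algebra.FiniteType.trans (inferInstance : Algebra.FiniteType B S)
        (inferInstance : Algebra.FiniteType S (MvPolynomial (Fin n) S))
    exact Algebra.FiniteType.of_surjective (Ideal.Quotient.mkₐ B (RingHom.ker ρ₀))
      (Ideal.Quotient.mkₐ_surjective B _)
  obtain ⟨ρ, hρ⟩ : ∃ ρ : (MvPolynomial (Fin n) S ⧸ RingHom.ker ρ₀) →+* Y,
      ∀ Q, ρ (Ideal.Quotient.mk _ Q) = ρ₀ Q :=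
    ⟨RingHom.kerLift ρ₀, fun Q => RingHom.kerLift_mk ρ₀ Q⟩
  have hρmk : ∀ Q, ρ (Ideal.Quotient.mk _ Q) = π (mf Q) := fun Q => by rw [hρ, hρ₀a]
  have hρS : ∀ s : S, ρ (Ideal.Quotient.mk _ (MvPolynomial.C s)) = algebraMap A' Y (f s) := by
    intro s
    rw [hρmk, hmfC, hπC]
  refine ⟨MvPolynomial (Fin n) S ⧸ RingHom.ker ρ₀, inferInstance, inferInstance, hft, ρ, ?_, ?_⟩
  · intro b
    have h1 : algebraMap B (MvPolynomial (Fin n) S ⧸ RingHom.ker ρ₀) b =
        Ideal.Quotient.mk _ (MvPolynomial.C (algebraMap B S b)) := rfl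
    rw [h1, hρS, f.commutes]
  · intro T _ _ g hg
    haveI := hg
    obtain ⟨gD, hgD⟩ : ∃ gD : (MvPolynomial (Fin n) S ⧸ RingHom.ker ρ₀) →+* T,
        gD = g.comp (algebraMap _ (Localization.AtPrime (Ideal.comap ρ (maximalIdeal Y)))) :=
      ⟨_, rfl⟩
    have hgDa : ∀ d, gD d = g (algebraMap _ _ d) := fun d => by rw [hgD]; rfl
    have hgDcomap : (maximalIdeal T).comap gD = Ideal.comap ρ (maximalIdeal Y) := by
      rw [hgD, ← Ideal.comap_comap, comap_maximalIdeal_of_isLocalHom g]
      exact IsLocalization.AtPrime.under_maximalIdeal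
        (Localization.AtPrime (Ideal.comap ρ (maximalIdeal Y))) _
    obtain ⟨gS, hgS⟩ : ∃ gS : S →+* T,
        ∀ s, gS s = gD (Ideal.Quotient.mk _ (MvPolynomial.C s)) :=
      ⟨gD.comp ((Ideal.Quotient.mk _).comp MvPolynomial.C), fun s => rfl⟩
    have hq := HensAtPrime.comap_comap_eq p A' f
    have hbij := HensAtPrime.residueField_bijective p A' f
      ((maximalIdeal A').comap f.toRingHom) rfl hq
    have hmemY : ∀ a : A', algebraMap A' Y a ∈ maximalIdeal Y ↔ a ∈ maximalIdeal A' := by
      intro a
      rw [← comap_maximalIdeal_of_isLocalHom (algebraMap A' Y), Ideal.mem_comap]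
    have hgSiff : ∀ s : S, gS s ∈ maximalIdeal T ↔ f s ∈ maximalIdeal A' := by
      intro s
      rw [hgS, ← Ideal.mem_comap, hgDcomap, Ideal.mem_comap, hρS, hmemY]
    have hgB : (maximalIdeal T).comap (gS.comp (algebraMap B S)) = p := by
      ext b
      rw [Ideal.mem_comap, RingHom.comp_apply, hgSiff, f.commutes]
      exact HensAtPrime.algebraMap_mem_maximalIdeal_iff p A' b
    obtain ⟨h₀, hh₀, hh₀u⟩ := Hensel.IsHenselization.universal
      (R := Localization.AtPrime p) (S := A') T
      (liftLocal (gS.comp (algebraMap B S)) p hgB) (isLocalHom_liftLocal _ p hgB)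
    have hh₀B : ∀ b : B, h₀ (algebraMap B A' b) = gS (algebraMap B S b) := by
      intro b
      have h1 := RingHom.congr_fun hh₀ (algebraMap B (Localization.AtPrime p) b)
      rw [RingHom.comp_apply, liftLocal_apply] at h1
      rw [IsScalarTower.algebraMap_apply B (Localization.AtPrime p) A', h1]
      rfl
    haveI hh₀loc : IsLocalHom h₀ :=
      isLocalHom_of_comp h₀ (by rw [hh₀]; exact isLocalHom_liftLocal _ p hgB)
    have hh₀mem : ∀ a : A', a ∈ maximalIdeal A' → h₀ a ∈ maximalIdeal T := by
      intro a ha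
      have : a ∈ (maximalIdeal T).comap h₀ := by
        rw [comap_maximalIdeal_of_isLocalHom h₀]
        exact ha
      exact this
    have hfS : ∀ s : S, h₀ (f s) = gS s := by
      letI : Algebra B T := (gS.comp (algebraMap B S)).toAlgebra
      let φ₁ : S →ₐ[B] T := { h₀.comp f.toRingHom with
        commutes' := fun b => by
          show h₀ (f (algebraMap B S b)) = gS (algebraMap B S b)
          rw [f.commutes, hh₀B] }
      let φ₂ : S →ₐ[B] T := { gS with commutes' := fun b => rfl }
      have h12 : φ₁ = φ₂ := by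
        apply Hensel.algHom_eq_of_formallyUnramified (maximalIdeal T)
          (IsLocalRing.jacobson_eq_maximalIdeal ⊥ bot_ne_top).ge
        intro x
        show h₀ (f x) - gS x ∈ maximalIdeal T
        obtain ⟨a, t, ht, hx⟩ := HensAtPrime.exists_mul_sub_mem_of_surjective p
          ((maximalIdeal A').comap f.toRingHom) hq hbij.2 x
        have hx' : f (x * algebraMap B S t - algebraMap B S a) ∈ maximalIdeal A' := hx
        have e1 := hh₀mem _ hx'
        have e2 := (hgSiff _).mpr hx'
        rw [map_sub, map_mul, f.commutes, f.commutes, map_sub, map_mul, hh₀B, hh₀B] at e1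
        rw [map_sub, map_mul] at e2
        have e3 : (h₀ (f x) - gS x) * gS (algebraMap B S t) ∈ maximalIdeal T := by
          have h3 := Ideal.sub_mem _ e1 e2
          have h4 : (h₀ (f x) - gS x) * gS (algebraMap B S t)
              = h₀ (f x) * gS (algebraMap B S t) - gS (algebraMap B S a)
                - (gS x * gS (algebraMap B S t) - gS (algebraMap B S a)) := by ring
          rw [h4]
          exact h3
        rcases (IsLocalRing.maximalIdeal.isMaximal T).isPrime.mem_or_mem e3 with h | h
        · exact h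
        · exfalso
          rw [hgSiff, f.commutes, HensAtPrime.algebraMap_mem_maximalIdeal_iff p A' t] at h
          exact ht h
      intro s
      exact AlgHom.congr_fun h12 s
    obtain ⟨h', hh'C, hh'X⟩ : ∃ h' : MvPolynomial (Fin n) A' →+* T,
        (∀ a, h' (MvPolynomial.C a) = h₀ a) ∧
        ∀ i, h' (MvPolynomial.X i) = gD (Ideal.Quotient.mk _ (MvPolynomial.X i)) :=
      ⟨MvPolynomial.eval₂Hom h₀ (fun i => gD (Ideal.Quotient.mk _ (MvPolynomial.X i))),
        fun a => MvPolynomial.eval₂Hom_C _ _ a, fun i => MvPolynomial.eval₂Hom_X' _ _ i⟩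
    have hcomp : h'.comp mf = gD.comp (Ideal.Quotient.mk _) := by
      apply MvPolynomial.ringHom_ext
      · intro s
        rw [RingHom.comp_apply, RingHom.comp_apply, hmfC, hh'C, hfS, hgS]
      · intro i
        rw [RingHom.comp_apply, RingHom.comp_apply, hmfX, hh'X]
    have hcompa : ∀ Q, h' (mf Q) = gD (Ideal.Quotient.mk _ Q) :=
      fun Q => RingHom.congr_fun hcomp Q
    have hker : RingHom.ker π.toRingHom ≤ RingHom.ker h' := by
      refine hK.trans ?_
      rw [Ideal.map_le_iff_le_comap]
      intro Q hQ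
      rw [Ideal.mem_comap, RingHom.mem_ker, hcompa]
      have : Ideal.Quotient.mk (RingHom.ker ρ₀) Q = 0 := Ideal.Quotient.eq_zero_iff_mem.mpr hQ
      rw [this, map_zero]
    obtain ⟨h, hh⟩ : ∃ h : Y →+* T, ∀ Q, h (π Q) = h' Q :=
      ⟨π.toRingHom.liftOfSurjective hπ ⟨h', hker⟩,
        fun Q => RingHom.liftOfSurjective_comp_apply π.toRingHom hπ ⟨h', hker⟩ Q⟩
    refine ⟨h, ?_, ?_⟩
    · apply IsLocalization.ringHom_ext (Ideal.comap ρ (maximalIdeal Y)).primeCompl
      refine RingHom.ext (fun d => ?_)
      obtain ⟨Q, rfl⟩ := Ideal.Quotient.mk_surjective d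
      simp only [RingHom.comp_apply]
      rw [liftLocal_apply, hρmk, hh, hcompa, hgDa]
    · intro h₂ hh₂
      have hh₂ρ : ∀ d, h₂ (ρ d) = gD d := by
        intro d
        have h1 := RingHom.congr_fun hh₂ (algebraMap _ _ d)
        rw [RingHom.comp_apply, liftLocal_apply] at h1
        rw [h1, hgDa]
      have hA' : h₂.comp (algebraMap A' Y) = h₀ := by
        apply hh₀u
        apply IsLocalization.ringHom_ext p.primeCompl
        refine RingHom.ext (fun b => ?_)
        have e1 : h₂ (algebraMap A' Y (algebraMap B A' b)) = gS (algebraMap B S b) := by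
          have h1 : algebraMap A' Y (algebraMap B A' b) =
              ρ (Ideal.Quotient.mk _ (MvPolynomial.C (algebraMap B S b))) := by
            rw [hρS, f.commutes]
          rw [h1, hh₂ρ, hgS]
        simp only [RingHom.comp_apply]
        rw [liftLocal_apply, ← IsScalarTower.algebraMap_apply B (Localization.AtPrime p) A', e1]
        rfl
      have hcomp₂ : h₂.comp π.toRingHom = h' := by
        apply MvPolynomial.ringHom_ext
        · intro a
          rw [RingHom.comp_apply]
          show h₂ (π (MvPolynomial.C a)) = _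
          rw [hπC, hh'C, ← hA']
          rfl
        · intro i
          rw [RingHom.comp_apply]
          show h₂ (π (MvPolynomial.X i)) = _
          rw [hh'X, ← hh₂ρ, hρmk, hmfX]
      apply RingHom.ext
      intro y
      obtain ⟨Q, rfl⟩ := hπ y
      rw [hh, ← hcomp₂]
      rfl

/-- Packaging the universal property into the existential form of the statements. -/
theorem package (A : Type u) [CommRing A] {B : Type u} [CommRing B] [Algebra A B]
    [Algebra.FiniteType A B] {D : Type u} [CommRing D] [Algebra B D] [Algebra.FiniteType B D]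
    (Y : Type u) [CommRing Y] [HenselianLocalRing Y] [Algebra A Y] (ρ : D →+* Y)
    (hρA : ∀ a : A, ρ (algebraMap B D (algebraMap A B a)) = algebraMap A Y a)
    (U : ∀ (T : Type u) [CommRing T] [HenselianLocalRing T]
        (g : Localization.AtPrime ((maximalIdeal Y).comap ρ) →+* T), IsLocalHom g →
        ∃! h : Y →+* T, h.comp (liftLocal ρ ((maximalIdeal Y).comap ρ) rfl) = g) :
    ∃ (B' : Type u) (_ : CommRing B') (_ : Algebra A B') (_ : Algebra.FiniteType A B')
      (p : Ideal B') (_ : p.IsPrime)
      (_ : Algebra (Localization.AtPrime p) Y) (_ : IsScalarTower A (Localization.AtPrime p) Y)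
      (_ : IsLocalHom (algebraMap (Localization.AtPrime p) Y)),
      Hensel.IsHenselization (Localization.AtPrime p) Y := by
  letI algAD : Algebra A D := ((algebraMap B D).comp (algebraMap A B)).toAlgebra
  haveI : IsScalarTower A B D := IsScalarTower.of_algebraMap_eq (fun _ => rfl)
  have hft : Algebra.FiniteType A D :=
    Algebra.FiniteType.trans (inferInstance : Algebra.FiniteType A B)
      (inferInstance : Algebra.FiniteType B D)
  letI algY : Algebra (Localization.AtPrime ((maximalIdeal Y).comap ρ)) Y :=
    (liftLocal ρ ((maximalIdeal Y).comap ρ) rfl).toAlgebra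
  haveI hloc : IsLocalHom (algebraMap (Localization.AtPrime ((maximalIdeal Y).comap ρ)) Y) :=
    isLocalHom_liftLocal ρ _ rfl
  refine ⟨D, inferInstance, algAD, hft, (maximalIdeal Y).comap ρ, inferInstance, algY, ?_, hloc,
    ?_⟩
  · apply IsScalarTower.of_algebraMap_eq
    intro a
    rw [IsScalarTower.algebraMap_apply A D (Localization.AtPrime ((maximalIdeal Y).comap ρ))]
    show _ = liftLocal ρ _ rfl (algebraMap D _ (algebraMap A D a))
    rw [liftLocal_apply]
    exact (hρA a).symm
  · exact ⟨inferInstance, fun T _ _ f hf => U T f hf⟩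

end Groth.Agent.Helper7.HensFinTransfer
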