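import Mathlib
import Groth.Prelude.Def_Hensel
import Groth.Agent.Lib.Helper7.HensFinTransfer.Fwd
import Groth.Agent.Lib.Helper7.SHens.Noeth
import Groth.Agent.Lib.Helper7.Hensel.FiniteDecomp
import Groth.Agent.Lib.Helper7.Hensel.FiniteLocal

/-! helper7: converse transfer: if a finite injective local extension of a noetherian henselian
local ring `A'` is the henselization of a local ring essentially of finite type, so is `A'`. -/

set_option linter.style.haveILetI false
set_option linter.unusedVariables false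
set_option linter.unusedSectionVars false
set_option linter.overlappingInstances false
set_option autoImplicit false
set_option backward.isDefEq.respectTransparency.types false
set_option backward.isDefEq.respectTransparency false
set_option synthInstance.maxHeartbeats 400000
set_option maxHeartbeats 1600000

open IsLocalRing TensorProduct

namespace Groth.Agent.Helper7.HensFinTransfer

open Groth.Agent.Helper7.HensTensor

universe u

theorem mul_mem_span {R : Type*} [CommRing R] {Y : Type*} [CommRing Y] [Algebra R Y] (X : Set Y)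
    (hmul : ∀ x ∈ X, ∀ x' ∈ X, x * x' ∈ Submodule.span R X) {y y' : Y}
    (hy : y ∈ Submodule.span R X) (hy' : y' ∈ Submodule.span R X) :
    y * y' ∈ Submodule.span R X := by
  have h : Submodule.span R X * Submodule.span R X ≤ Submodule.span R X := by
    rw [Submodule.span_mul_span, Submodule.span_le]
    rintro _ ⟨x, hx, x', hx', rfl⟩
    exact hmul x hx x' hx'
  exact h (Submodule.mul_mem_mul hy hy')

/-- If a finite sub-`H`-algebra `E` of the henselization `Y` of `(B₁)_{p₁}` (with `H` henselian)
contains the image of `B₁`, then `E = Y`. -/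
theorem span_eq_top (H : Type u) [CommRing H] [HenselianLocalRing H]
    (Y : Type u) [CommRing Y] [HenselianLocalRing Y] [Algebra H Y] [IsLocalHom (algebraMap H Y)]
    (B₁ : Type u) [CommRing B₁] (p₁ : Ideal B₁) [p₁.IsPrime]
    [Algebra (Localization.AtPrime p₁) Y] [IsLocalHom (algebraMap (Localization.AtPrime p₁) Y)]
    [Hensel.IsHenselization (Localization.AtPrime p₁) Y] [Algebra B₁ Y]
    [IsScalarTower B₁ (Localization.AtPrime p₁) Y]
    (X : Finset Y) (h1 : (1 : Y) ∈ Submodule.span H (X : Set Y))
    (hmul : ∀ x ∈ X, ∀ x' ∈ X, x * x' ∈ Submodule.span H (X : Set Y))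
    (hB₁ : ∀ b : B₁, algebraMap B₁ Y b ∈ Submodule.span H (X : Set Y)) :
    Submodule.span H (X : Set Y) = ⊤ := by
  classical
  obtain ⟨E, hE⟩ : ∃ E : Subalgebra H Y, ∀ y, y ∈ E ↔ y ∈ Submodule.span H (X : Set Y) :=
    ⟨(Submodule.span H (X : Set Y)).toSubalgebra h1
      (fun y y' hy hy' => mul_mem_span (X : Set Y)
        (fun x hx x' hx' => hmul x (Finset.mem_coe.mp hx) x' (Finset.mem_coe.mp hx')) hy hy'),
      fun y => Iff.rfl⟩
  haveI hfinE : Module.Finite H E := by
    have hsub : Subalgebra.toSubmodule E = Submodule.span H (X : Set Y) := by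
      ext y
      exact hE y
    have hfg : (Subalgebra.toSubmodule E).FG := by
      rw [hsub]
      exact Submodule.fg_span X.finite_toSet
    haveI : Module.Finite H (Subalgebra.toSubmodule E) := Module.Finite.iff_fg.mpr hfg
    exact Module.Finite.equiv (Subalgebra.toSubmoduleEquiv E)
  haveI : Nontrivial E :=
    ⟨⟨0, 1, fun h => zero_ne_one (α := Y) (congrArg Subtype.val h)⟩⟩
  haveI : IsLocalRing E := by
    apply IsLocalRing.of_unique_max_ideal
    obtain ⟨M, hM⟩ := Ideal.exists_maximal E
    refine ⟨M, hM, fun M' hM' => ?_⟩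
    by_contra hne
    haveI := hM
    haveI := hM'
    obtain ⟨e, he, heM', heM⟩ := Hensel.exists_idempotent_mem_of_ne H E M' M hne
    have heY : (e : Y) * (e : Y) = (e : Y) := congrArg Subtype.val he.eq
    have hmul0 : (e : Y) * (1 - (e : Y)) = 0 := by rw [mul_sub, mul_one, heY, sub_self]
    rcases IsLocalRing.isUnit_or_isUnit_one_sub_self (e : Y) with hu | hu
    · have h0 : (1 : Y) - (e : Y) = 0 := (hu.mul_right_eq_zero).mp hmul0
      have h1e : e = 1 := by
        apply Subtype.ext
        show (e : Y) = 1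
        exact (sub_eq_zero.mp h0).symm
      rw [h1e] at heM'
      exact hM'.ne_top ((Ideal.eq_top_iff_one M').mpr heM')
    · have h0 : (e : Y) = 0 := (hu.mul_left_eq_zero).mp hmul0
      have h0e : e = 0 := Subtype.ext h0
      rw [h0e, sub_zero] at heM
      exact hM.ne_top ((Ideal.eq_top_iff_one M).mpr heM)
  haveI : HenselianLocalRing E := Hensel.henselianLocalRing_of_finite H E
  obtain ⟨ι, hι⟩ : ∃ ι : E →+* Y, ∀ e : E, ι e = (e : Y) := ⟨E.val.toRingHom, fun _ => rfl⟩
  have hιalg : ∀ h : H, ι (algebraMap H E h) = algebraMap H Y h := fun h => by rw [hι]; rfl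
  have hιloc : (maximalIdeal Y).comap ι = maximalIdeal E := by
    haveI : Algebra.IsIntegral H E := Algebra.IsIntegral.of_finite H E
    have hmax : ((maximalIdeal Y).comap ι).IsMaximal := by
      apply Ideal.isMaximal_of_isIntegral_of_isMaximal_comap (R := H)
      have h2 : ((maximalIdeal Y).comap ι).comap (algebraMap H E) = maximalIdeal H := by
        rw [← comap_maximalIdeal_of_isLocalHom (algebraMap H Y)]
        ext h
        simp only [Ideal.mem_comap]
        rw [hιalg]
      rw [h2]
      infer_instance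
    exact IsLocalRing.eq_maximalIdeal hmax
  obtain ⟨j', hj'⟩ : ∃ j' : B₁ →+* E, ∀ b, ι (j' b) = algebraMap B₁ Y b :=
    ⟨(algebraMap B₁ Y).codRestrict E (fun b => (hE _).mpr (hB₁ b)), fun b => by rw [hι]; rfl⟩
  have hp₁ : (maximalIdeal E).comap j' = p₁ := by
    have h3 : (maximalIdeal E).comap j' = (maximalIdeal Y).comap (algebraMap B₁ Y) := by
      rw [← hιloc]
      ext b
      simp only [Ideal.mem_comap]
      rw [hj']
    exact h3.trans (HensAtPrime.comap_maximalIdeal p₁ Y)
  obtain ⟨θ, hθ, -⟩ := Hensel.IsHenselization.universal (R := Localization.AtPrime p₁) (S := Y) E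
    (liftLocal j' p₁ hp₁) (isLocalHom_liftLocal j' p₁ hp₁)
  have huniq := Hensel.IsHenselization.universal (R := Localization.AtPrime p₁) (S := Y) Y
    (algebraMap (Localization.AtPrime p₁) Y) inferInstance
  have e1 : (ι.comp θ).comp (algebraMap (Localization.AtPrime p₁) Y) =
      algebraMap (Localization.AtPrime p₁) Y := by
    rw [RingHom.comp_assoc, hθ]
    apply IsLocalization.ringHom_ext p₁.primeCompl
    refine RingHom.ext (fun b => ?_)
    simp only [RingHom.comp_apply]
    rw [liftLocal_apply, hj', IsScalarTower.algebraMap_apply B₁ (Localization.AtPrime p₁) Y]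
  have e2 : (RingHom.id Y).comp (algebraMap (Localization.AtPrime p₁) Y) =
      algebraMap (Localization.AtPrime p₁) Y := RingHom.id_comp _
  have e3 : ι.comp θ = RingHom.id Y := huniq.unique e1 e2
  rw [eq_top_iff]
  intro y _
  have e4 : ι (θ y) = y := RingHom.congr_fun e3 y
  rw [← e4, hι]
  exact (hE _).mp (θ y).2

/-- Converse, with the finite type subalgebra and a henselization of its localization given. -/
theorem converse_aux (A : Type u) [CommRing A] [IsNoetherianRing A]
    (A' : Type u) [CommRing A'] [IsNoetherianRing A'] [HenselianLocalRing A'] [Algebra A A']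
    (Y : Type u) [CommRing Y] [HenselianLocalRing Y]
    [Algebra A' Y] [Module.Finite A' Y] [IsLocalHom (algebraMap A' Y)]
    (hinj : Function.Injective (algebraMap A' Y))
    (B₁ : Type u) [CommRing B₁] (p₁ : Ideal B₁) [p₁.IsPrime]
    [Algebra (Localization.AtPrime p₁) Y] [IsLocalHom (algebraMap (Localization.AtPrime p₁) Y)]
    [Hensel.IsHenselization (Localization.AtPrime p₁) Y] [Algebra B₁ Y]
    [IsScalarTower B₁ (Localization.AtPrime p₁) Y]
    (B : Type u) [CommRing B] [Algebra A B] [Algebra.FiniteType A B] [Algebra B A']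
    [IsScalarTower A B A'] [Algebra B Y] [IsScalarTower B A' Y]
    (X : Finset Y) (h1 : (1 : Y) ∈ Submodule.span B (X : Set Y))
    (hmul : ∀ x ∈ X, ∀ x' ∈ X, x * x' ∈ Submodule.span B (X : Set Y))
    (hB₁ : ∀ b : B₁, algebraMap B₁ Y b ∈ Submodule.span B (X : Set Y))
    (p : Ideal B) [p.IsPrime] (hp : (maximalIdeal A').comap (algebraMap B A') = p)
    (H : Type u) [CommRing H] [IsLocalRing H] [Algebra (Localization.AtPrime p) H]
    [IsLocalHom (algebraMap (Localization.AtPrime p) H)]
    [Hensel.IsHenselization (Localization.AtPrime p) H] :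
    ∃ (B' : Type u) (_ : CommRing B') (_ : Algebra A B') (_ : Algebra.FiniteType A B')
      (p' : Ideal B') (_ : p'.IsPrime)
      (_ : Algebra (Localization.AtPrime p') A') (_ : IsScalarTower A (Localization.AtPrime p') A')
      (_ : IsLocalHom (algebraMap (Localization.AtPrime p') A')),
      Hensel.IsHenselization (Localization.AtPrime p') A' := by
  classical
  haveI hHh : HenselianLocalRing H :=
    Hensel.IsHenselization.henselian (R := Localization.AtPrime p) (S := H)
  haveI : IsNoetherianRing B := Algebra.FiniteType.isNoetherianRing A B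
  haveI : IsNoetherianRing (Localization.AtPrime p) :=
    IsLocalization.isNoetherianRing p.primeCompl _ inferInstance
  haveI : IsNoetherianRing H :=
    (SHens.isNoetherianRing_iff_of_isHenselization (Localization.AtPrime p) H).mp inferInstance
  obtain ⟨κ, hκ, -⟩ := Hensel.IsHenselization.universal (R := Localization.AtPrime p) (S := H) A'
    (liftLocal (algebraMap B A') p hp) (isLocalHom_liftLocal _ p hp)
  have hκloc : IsLocalHom κ :=
    isLocalHom_of_comp κ (by rw [hκ]; exact isLocalHom_liftLocal _ p hp)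
  letI algBH : Algebra B H :=
    ((algebraMap (Localization.AtPrime p) H).comp (algebraMap B _)).toAlgebra
  haveI : IsScalarTower B (Localization.AtPrime p) H :=
    IsScalarTower.of_algebraMap_eq (fun _ => rfl)
  letI algHA' : Algebra H A' := κ.toAlgebra
  haveI : IsLocalHom (algebraMap H A') := hκloc
  have hκB : ∀ b : B, algebraMap H A' (algebraMap B H b) = algebraMap B A' b := by
    intro b
    have h := RingHom.congr_fun hκ (algebraMap B (Localization.AtPrime p) b)
    rw [RingHom.comp_apply, liftLocal_apply] at h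
    exact h
  haveI : IsScalarTower B H A' := IsScalarTower.of_algebraMap_eq (fun b => (hκB b).symm)
  letI algHY : Algebra H Y := ((algebraMap A' Y).comp (algebraMap H A')).toAlgebra
  haveI : IsScalarTower H A' Y := IsScalarTower.of_algebraMap_eq (fun _ => rfl)
  haveI : IsScalarTower B H Y := IsScalarTower.of_algebraMap_eq (fun b => by
    rw [IsScalarTower.algebraMap_apply B A' Y, IsScalarTower.algebraMap_apply H A' Y, hκB])
  haveI : IsLocalHom (algebraMap H Y) := by
    show IsLocalHom ((algebraMap A' Y).comp (algebraMap H A'))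
    exact RingHom.isLocalHom_comp _ _
  have hle : ∀ y, y ∈ Submodule.span B (X : Set Y) → y ∈ Submodule.span H (X : Set Y) :=
    fun y hy => Submodule.span_le_restrictScalars B H (X : Set Y) hy
  have htop : Submodule.span H (X : Set Y) = ⊤ :=
    span_eq_top H Y B₁ p₁ X (hle _ h1) (fun x hx x' hx' => hle _ (hmul x hx x' hx'))
      (fun b => hle _ (hB₁ b))
  haveI : Module.Finite H Y := ⟨⟨X, htop⟩⟩
  haveI : IsNoetherian H Y := isNoetherian_of_isNoetherianRing_of_finite H Y
  haveI : Module.Finite H A' :=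
    Module.Finite.of_injective ((Algebra.linearMap A' Y).restrictScalars H) hinj
  obtain ⟨D, _, _, hft, ρ, hρB, U⟩ := forward_core p H A'
  haveI := hft
  exact package A A' ρ (fun a => by
    rw [hρB, hκB, ← IsScalarTower.algebraMap_apply A B A']) U

/-- **Converse**: if the finite injective local extension `Y` of `A'` is the henselization of a
local ring essentially of finite type over `A`, then so is `A'`. -/
theorem converse (A : Type u) [CommRing A] [IsNoetherianRing A]
    (A' : Type u) [CommRing A'] [IsNoetherianRing A'] [HenselianLocalRing A'] [Algebra A A']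
    (Y : Type u) [CommRing Y] [HenselianLocalRing Y] [Algebra A Y]
    [Algebra A' Y] [IsScalarTower A A' Y] [Module.Finite A' Y] [IsLocalHom (algebraMap A' Y)]
    (hinj : Function.Injective (algebraMap A' Y))
    (B₁ : Type u) [CommRing B₁] [Algebra A B₁] [Algebra.FiniteType A B₁] (p₁ : Ideal B₁)
    [p₁.IsPrime]
    [Algebra (Localization.AtPrime p₁) Y] [IsScalarTower A (Localization.AtPrime p₁) Y]
    [IsLocalHom (algebraMap (Localization.AtPrime p₁) Y)]
    [Hensel.IsHenselization (Localization.AtPrime p₁) Y] :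
    ∃ (B' : Type u) (_ : CommRing B') (_ : Algebra A B') (_ : Algebra.FiniteType A B')
      (p' : Ideal B') (_ : p'.IsPrime)
      (_ : Algebra (Localization.AtPrime p') A') (_ : IsScalarTower A (Localization.AtPrime p') A')
      (_ : IsLocalHom (algebraMap (Localization.AtPrime p') A')),
      Hensel.IsHenselization (Localization.AtPrime p') A' := by
  classical
  letI algB₁Y : Algebra B₁ Y :=
    ((algebraMap (Localization.AtPrime p₁) Y).comp (algebraMap B₁ _)).toAlgebra
  haveI : IsScalarTower B₁ (Localization.AtPrime p₁) Y :=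
    IsScalarTower.of_algebraMap_eq (fun _ => rfl)
  have hAB₁ : ∀ a : A, algebraMap B₁ Y (algebraMap A B₁ a) = algebraMap A Y a := by
    intro a
    show algebraMap (Localization.AtPrime p₁) Y (algebraMap B₁ _ (algebraMap A B₁ a)) = _
    rw [← IsScalarTower.algebraMap_apply A B₁ (Localization.AtPrime p₁),
      ← IsScalarTower.algebraMap_apply A (Localization.AtPrime p₁) Y]
  obtain ⟨X, hX⟩ := (Module.Finite.fg_top : (⊤ : Submodule A' Y).FG)
  have hrep : ∀ y : Y, ∃ c : Y → A', y = ∑ x ∈ X, c x • x := by
    intro y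
    have hy : y ∈ Submodule.span A' (X : Set Y) := by
      rw [hX]
      trivial
    obtain ⟨c, -, hc⟩ := Submodule.mem_span_finset.mp hy
    exact ⟨c, hc.symm⟩
  choose c hc using hrep
  obtain ⟨gens, hgens⟩ := (Algebra.FiniteType.out : (⊤ : Subalgebra A B₁).FG)
  obtain ⟨Ys, hYs1, hYsmul, hYsgen⟩ : ∃ Ys : Finset Y, (1 : Y) ∈ Ys ∧
      (∀ x ∈ X, ∀ x' ∈ X, x * x' ∈ Ys) ∧ (∀ b ∈ gens, algebraMap B₁ Y b ∈ Ys) :=
    ⟨insert 1 ((X ×ˢ X).image (fun z => z.1 * z.2) ∪ gens.image (algebraMap B₁ Y)),
      Finset.mem_insert_self _ _,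
      fun x hx x' hx' => Finset.mem_insert_of_mem (Finset.mem_union_left _
        (Finset.mem_image.mpr ⟨(x, x'), Finset.mem_product.mpr ⟨hx, hx'⟩, rfl⟩)),
      fun b hb => Finset.mem_insert_of_mem (Finset.mem_union_right _
        (Finset.mem_image_of_mem _ hb))⟩
  obtain ⟨Cs, hCs⟩ : ∃ Cs : Finset A', ∀ y ∈ Ys, ∀ x ∈ X, c y x ∈ Cs :=
    ⟨Ys.biUnion (fun y => X.image (c y)), fun y hy x hx =>
      Finset.mem_biUnion.mpr ⟨y, hy, Finset.mem_image_of_mem _ hx⟩⟩
  obtain ⟨Bs, hBsfg, hBsmem⟩ : ∃ Bs : Subalgebra A A', Bs.FG ∧ ∀ a ∈ Cs, a ∈ Bs :=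
    ⟨Algebra.adjoin A (Cs : Set A'), Subalgebra.fg_adjoin_finset Cs,
      fun a ha => Algebra.subset_adjoin (Finset.mem_coe.mpr ha)⟩
  haveI : Algebra.FiniteType A Bs := (Subalgebra.fg_iff_finiteType Bs).mp hBsfg
  have hsm : ∀ (a : A') (ha : a ∈ Bs) (y : Y), a • y = (⟨a, ha⟩ : Bs) • y :=
    fun a ha y => rfl
  have hkey : ∀ y ∈ Ys, y ∈ Submodule.span Bs (X : Set Y) := by
    intro y hy
    have h : ∑ x ∈ X, c y x • x ∈ Submodule.span Bs (X : Set Y) := by
      apply Submodule.sum_mem
      intro x hx
      rw [hsm _ (hBsmem _ (hCs y hy x hx))]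
      exact Submodule.smul_mem _ _ (Submodule.subset_span (Finset.mem_coe.mpr hx))
    rwa [← hc y] at h
  have hmulB : ∀ x ∈ X, ∀ x' ∈ X, x * x' ∈ Submodule.span Bs (X : Set Y) :=
    fun x hx x' hx' => hkey _ (hYsmul x hx x' hx')
  have hB₁span : ∀ b : B₁, algebraMap B₁ Y b ∈ Submodule.span Bs (X : Set Y) := by
    obtain ⟨E₀, hE₀⟩ : ∃ E₀ : Subalgebra Bs Y,
        ∀ y, y ∈ E₀ ↔ y ∈ Submodule.span Bs (X : Set Y) :=
      ⟨(Submodule.span Bs (X : Set Y)).toSubalgebra (hkey 1 hYs1)
        (fun y y' hy hy' => mul_mem_span (X : Set Y)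
          (fun x hx x' hx' => hmulB x (Finset.mem_coe.mp hx) x' (Finset.mem_coe.mp hx')) hy hy'),
        fun y => Iff.rfl⟩
    let jA : B₁ →ₐ[A] Y := { algebraMap B₁ Y with commutes' := hAB₁ }
    have hrange : jA.range ≤ E₀.restrictScalars A := by
      rw [← Algebra.map_top, ← hgens, AlgHom.map_adjoin, Algebra.adjoin_le_iff]
      rintro _ ⟨b, hb, rfl⟩
      exact (hE₀ _).mpr (hkey _ (hYsgen b (Finset.mem_coe.mp hb)))
    intro b
    exact (hE₀ _).mp (hrange ⟨b, rfl⟩)
  haveI := SHens.isHenselization_HModel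
    (Localization.AtPrime ((maximalIdeal A').comap (algebraMap Bs A')))
  exact converse_aux A A' Y hinj B₁ p₁ Bs X (hkey 1 hYs1) hmulB hB₁span
    ((maximalIdeal A').comap (algebraMap Bs A')) rfl
    (SHens.HModel (Localization.AtPrime ((maximalIdeal A').comap (algebraMap Bs A'))))

end Groth.Agent.Helper7.HensFinTransfer
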